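import Cfsg.Agent.Nodes.RGDChev

/-!
# S3509: stable subsystems of long roots, interface (helper165)

`PsiSet hp cs θ Ψ` : `Ψ` is a closed symmetric irreducible set of long roots, of rank at least two, stable under the map
`θ` of the root lattice (`θ = g ∘ w` or `w ∘ g`, `w` in the Weyl group).

* `PsiSet.mono` : only the values of `θ` on `Ψ` matter;
* `PsiSet.conj` : conjugation by `w`;
* `PsiSet.finite`, `PsiSet.image_eq`, `PsiSet.mem_iff` : `θ Ψ = Ψ` for injective `θ`;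
-/

set_option autoImplicit false
set_option linter.unusedSectionVars false

namespace Cfsg.Agent.H165.WL

open CoxeterSystem Cfsg Cfsg.Lie Cfsg.Lie.ChevalleyDatum
open Cfsg.Agent.ChevalleyStructure Cfsg.Agent.ChevalleyStructure.CoxeterGeom
open Cfsg.Agent.Tits.Roots Cfsg.Agent.Nodes.RGDChev

variable {D : ChevalleyDatum} {l : ℕ} {M : CoxeterMatrix (Fin l)} (hp : IsType D l M) {W : Type*} [Group W]
  (cs : CoxeterSystem M W)

/-- A `θ`-stable closed irreducible set of long roots, not of type `A₁`. -/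
structure PsiSet (θ : (Fin l → ℤ) → (Fin l → ℤ)) (Ψ : Set (Fin l → ℤ)) : Prop where
  root : ∀ v ∈ Ψ, IsRoot cs hp.isCartan v
  neg : ∀ v ∈ Ψ, -v ∈ Ψ
  closed : ∀ v ∈ Ψ, ∀ u ∈ Ψ, IsRoot cs hp.isCartan (v + u) → v + u ∈ Ψ
  stable : ∀ v ∈ Ψ, θ v ∈ Ψ
  long : ∀ v ∈ Ψ, ∃ w : W, v = rep cs hp.isCartan w (vec D l (D.nroots - 1))
  irr : ∀ A ⊆ Ψ, A.Nonempty →
    (∀ a ∈ A, ∀ b ∈ Ψ, (IsRoot cs hp.isCartan (a + b) ∨ IsRoot cs hp.isCartan (a - b)) → b ∈ A) → A = Ψ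
  two : ∃ a ∈ Ψ, ∃ b ∈ Ψ, IsRoot cs hp.isCartan (a + b)

variable {hp cs} {θ θ' : (Fin l → ℤ) → (Fin l → ℤ)} {Ψ : Set (Fin l → ℤ)}

theorem PsiSet.mono (h : PsiSet hp cs θ Ψ) (h' : ∀ v ∈ Ψ, θ' v = θ v) : PsiSet hp cs θ' Ψ :=
  { h with stable := fun v hv => by rw [h' v hv]; exact h.stable v hv }

theorem PsiSet.finite (h : PsiSet hp cs θ Ψ) : Ψ.Finite := by
  have hf : (Set.range fun r : Fin D.nroots => vec D l r).Finite := Set.finite_range _
  refine hf.subset fun v hv => ?_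
  obtain ⟨r, hr, e⟩ := (isRoot_iff hp cs v).1 (h.root v hv)
  exact ⟨⟨r, hr⟩, e⟩

theorem PsiSet.image_eq (h : PsiSet hp cs θ Ψ) (hθ : Function.Injective θ) : θ '' Ψ = Ψ := by
  have h1 : θ '' Ψ ⊆ Ψ := by
    rintro _ ⟨v, hv, rfl⟩
    exact h.stable v hv
  exact Set.eq_of_subset_of_ncard_le h1 (by rw [Set.ncard_image_of_injective _ hθ]) h.finite

theorem PsiSet.mem_iff (h : PsiSet hp cs θ Ψ) (hθ : Function.Injective θ) {v : Fin l → ℤ} : θ v ∈ Ψ ↔ v ∈ Ψ := by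
  refine ⟨fun h1 => ?_, h.stable v⟩
  have h2 : θ v ∈ θ '' Ψ := by rw [h.image_eq hθ]; exact h1
  obtain ⟨u, hu, e⟩ := h2
  rwa [← hθ e]

variable (hp) in
theorem isRoot_rep_iff (w : W) {v : Fin l → ℤ} : IsRoot cs hp.isCartan (rep cs hp.isCartan w v) ↔
    IsRoot cs hp.isCartan v := by
  refine ⟨fun h => ?_, fun h => h.act w⟩
  have := h.act w⁻¹
  rwa [rep_inv_apply] at this

/-- Conjugation. -/
theorem PsiSet.conj (h : PsiSet hp cs θ Ψ) (w : W) :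
    PsiSet hp cs (fun v => rep cs hp.isCartan w (θ (rep cs hp.isCartan w⁻¹ v))) (rep cs hp.isCartan w '' Ψ) where
  root := by
    rintro _ ⟨v, hv, rfl⟩
    exact (h.root v hv).act w
  neg := by
    rintro _ ⟨v, hv, rfl⟩
    exact ⟨-v, h.neg v hv, by rw [map_neg]⟩
  closed := by
    rintro _ ⟨v, hv, rfl⟩ _ ⟨u, hu, rfl⟩ h1
    rw [← map_add] at h1 ⊢
    exact ⟨v + u, h.closed v hv u hu ((isRoot_rep_iff hp w).1 h1), rfl⟩
  stable := by
    rintro _ ⟨v, hv, rfl⟩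
    refine ⟨θ v, h.stable v hv, ?_⟩
    rw [rep_inv_apply]
  long := by
    rintro _ ⟨v, hv, rfl⟩
    obtain ⟨w', hw'⟩ := h.long v hv
    exact ⟨w * w', by rw [rep_mul_apply, ← hw']⟩
  irr := by
    intro A hA hne hc
    have hsub : {v | rep cs hp.isCartan w v ∈ A} ⊆ Ψ := by
      intro v hv
      obtain ⟨u, hu, e⟩ := hA hv
      have h2 := congrArg (rep cs hp.isCartan w⁻¹) e
      rw [rep_inv_apply, rep_inv_apply] at h2
      rwa [← h2]
    have h1 : {v | rep cs hp.isCartan w v ∈ A} = Ψ := by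
      refine h.irr _ hsub ?_ ?_
      · obtain ⟨a, ha⟩ := hne
        obtain ⟨u, hu, rfl⟩ := hA ha
        exact ⟨u, ha⟩
      · intro a ha b hb hab
        refine hc _ ha _ ⟨b, hb, rfl⟩ ?_
        rw [← map_add, ← map_sub, isRoot_rep_iff hp, isRoot_rep_iff hp]
        exact hab
    apply Set.Subset.antisymm hA
    rintro _ ⟨v, hv, rfl⟩
    rw [← h1] at hv
    exact hv
  two := by
    obtain ⟨a, ha, b, hb, hab⟩ := h.two
    exact ⟨_, ⟨a, ha, rfl⟩, _, ⟨b, hb, rfl⟩, by rw [← map_add]; exact hab.act w⟩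

end Cfsg.Agent.H165.WL
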