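import Cfsg.Agent.H165.WL.Defs

/-!
# S3509: stable subsystems from lists of vectors (helper165)

* `Tabl hp T` : `T` is the list of the roots (as lists of coordinates, in the order of the indices);
* `exists_w_of_chain` : roots reached from the highest root by simple reflections;
* `PsiSet.of_list` : the checks for a list of vectors.
-/

set_option autoImplicit false
set_option linter.unusedSectionVars false

namespace Cfsg.Agent.H165.WL

open CoxeterSystem Cfsg Cfsg.Lie Cfsg.Lie.ChevalleyDatum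
open Cfsg.Agent.ChevalleyStructure Cfsg.Agent.ChevalleyStructure.CoxeterGeom
open Cfsg.Agent.Tits.Roots Cfsg.Agent.Nodes.RGDChev Cfsg.Agent.ChevalleyStructure.Elts
open Cfsg.Agent.ChevalleyStructure.NPerm

/-- the vector of a list -/
def vf (l : ℕ) (v : List ℤ) : Fin l → ℤ := fun i => v.getD i 0

def addL (u v : List ℤ) : List ℤ := List.zipWith (· + ·) u v

def subL (u v : List ℤ) : List ℤ := List.zipWith (· - ·) u v

def negL (u : List ℤ) : List ℤ := u.map (- ·)

theorem vf_inj {l : ℕ} {u v : List ℤ} (hu : u.length = l) (hv : v.length = l) (h : vf l u = vf l v) : u = v := by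
  apply List.ext_getElem (by rw [hu, hv])
  intro i h1 h2
  have h3 := congrFun h ⟨i, by rw [← hu]; exact h1⟩
  unfold vf at h3
  simp only at h3
  rw [List.getD_eq_getElem _ _ h1, List.getD_eq_getElem _ _ h2] at h3
  exact h3

theorem length_addL {l : ℕ} {u v : List ℤ} (hu : u.length = l) (hv : v.length = l) : (addL u v).length = l := by
  rw [addL, List.length_zipWith, hu, hv, min_self]

theorem length_subL {l : ℕ} {u v : List ℤ} (hu : u.length = l) (hv : v.length = l) : (subL u v).length = l := by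
  rw [subL, List.length_zipWith, hu, hv, min_self]

theorem vf_addL {l : ℕ} {u v : List ℤ} (hu : u.length = l) (hv : v.length = l) :
    vf l (addL u v) = vf l u + vf l v := by
  funext i
  have h1 : (i : ℕ) < u.length := by rw [hu]; exact i.2
  have h2 : (i : ℕ) < v.length := by rw [hv]; exact i.2
  have h3 : (i : ℕ) < (addL u v).length := by rw [length_addL hu hv]; exact i.2
  show (addL u v).getD i 0 = u.getD i 0 + v.getD i 0
  rw [List.getD_eq_getElem _ _ h1, List.getD_eq_getElem _ _ h2, List.getD_eq_getElem _ _ h3]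
  simp [addL]

theorem vf_subL {l : ℕ} {u v : List ℤ} (hu : u.length = l) (hv : v.length = l) :
    vf l (subL u v) = vf l u - vf l v := by
  funext i
  have h1 : (i : ℕ) < u.length := by rw [hu]; exact i.2
  have h2 : (i : ℕ) < v.length := by rw [hv]; exact i.2
  have h3 : (i : ℕ) < (subL u v).length := by rw [length_subL hu hv]; exact i.2
  show (subL u v).getD i 0 = u.getD i 0 - v.getD i 0
  rw [List.getD_eq_getElem _ _ h1, List.getD_eq_getElem _ _ h2, List.getD_eq_getElem _ _ h3]
  simp [subL]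

theorem vf_negL {l : ℕ} (u : List ℤ) : vf l (negL u) = -vf l u := by
  funext i
  show (negL u).getD i 0 = -(u.getD i 0)
  by_cases h : (i : ℕ) < u.length
  · have h3 : (i : ℕ) < (negL u).length := by rw [negL, List.length_map]; exact h
    rw [List.getD_eq_getElem _ _ h, List.getD_eq_getElem _ _ h3]
    simp [negL]
  · have h3 : ¬ (i : ℕ) < (negL u).length := by rw [negL, List.length_map]; exact h
    rw [List.getD_eq_default _ _ (not_lt.1 h), List.getD_eq_default _ _ (not_lt.1 h3), neg_zero]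

variable {D : ChevalleyDatum} {l : ℕ} {M : CoxeterMatrix (Fin l)} (hp : IsType D l M) {W : Type*} [Group W]
  (cs : CoxeterSystem M W)

/-- the list of the roots -/
structure Tabl (D : ChevalleyDatum) (l : ℕ) (T : List (List ℤ)) : Prop where
  len : T.length = D.nroots
  row : ∀ r < D.nroots, (T.getD r []).length = l ∧ ∀ i : Fin l, (T.getD r []).getD i 0 = vec D l r i

variable {T : List (List ℤ)}

theorem Tabl.vec_eq (h : Tabl D l T) {r : ℕ} (hr : r < D.nroots) : vf l (T.getD r []) = vec D l r :=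
  funext fun i => (h.row r hr).2 i

theorem Tabl.length_eq (h : Tabl D l T) {v : List ℤ} (hv : v ∈ T) : v.length = l := by
  obtain ⟨r, hr, rfl⟩ := List.mem_iff_getElem.1 hv
  have := (h.row r (by rw [← h.len]; exact hr)).1
  rwa [List.getD_eq_getElem _ _ hr] at this

include hp cs in
theorem Tabl.isRoot_iff (h : Tabl D l T) {x : Fin l → ℤ} : IsRoot cs hp.isCartan x ↔ ∃ v ∈ T, vf l v = x := by
  rw [Cfsg.Agent.Nodes.RGDChev.isRoot_iff hp cs]
  constructor
  · rintro ⟨r, hr, rfl⟩
    refine ⟨T.getD r [], ?_, h.vec_eq hr⟩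
    rw [List.getD_eq_getElem _ _ (by rw [h.len]; exact hr)]
    exact List.getElem_mem _
  · rintro ⟨v, hv, rfl⟩
    obtain ⟨r, hr, rfl⟩ := List.mem_iff_getElem.1 hv
    have hr' : r < D.nroots := by rw [← h.len]; exact hr
    refine ⟨r, hr', ?_⟩
    rw [← h.vec_eq hr', List.getD_eq_getElem _ _ hr]

include hp cs in
theorem Tabl.isRoot_vf (h : Tabl D l T) {v : List ℤ} (hv : v.length = l) :
    IsRoot cs hp.isCartan (vf l v) ↔ v ∈ T := by
  rw [h.isRoot_iff hp cs]
  constructor
  · rintro ⟨u, hu, e⟩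
    rwa [← vf_inj (h.length_eq hu) hv e]
  · intro h1
    exact ⟨v, h1, rfl⟩

/-- each index is the image of an earlier one under a simple reflection -/
def chain (D : ChevalleyDatum) (l : ℕ) : List ℕ → List ℕ → Bool
  | _, [] => true
  | seen, x :: xs => (seen.any fun s => (List.range l).any fun i => D.reflectRoot i s == x) && chain D l (x :: seen) xs

theorem exists_w_of_chain : ∀ (L seen : List ℕ), (∀ r ∈ seen, r < D.nroots ∧ ∃ w : W,
    vec D l r = rep cs hp.isCartan w (vec D l (D.nroots - 1))) → chain D l seen L = true →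
    ∀ r ∈ L, r < D.nroots ∧ ∃ w : W, vec D l r = rep cs hp.isCartan w (vec D l (D.nroots - 1)) := by
  intro L
  induction L with
  | nil => intro seen _ _ r hr; exact absurd hr (List.not_mem_nil)
  | cons x xs ih =>
    intro seen hs hc
    rw [chain, Bool.and_eq_true, List.any_eq_true] at hc
    obtain ⟨⟨s, hs1, hs2⟩, hc2⟩ := hc
    rw [List.any_eq_true] at hs2
    obtain ⟨i, hi, e⟩ := hs2
    rw [List.mem_range] at hi
    rw [beq_iff_eq] at e
    obtain ⟨hlt, w, hw⟩ := hs s hs1
    have hx : x < D.nroots ∧ ∃ w : W, vec D l x = rep cs hp.isCartan w (vec D l (D.nroots - 1)) := by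
      have h1 := rep_vec hp cs ⟨i, hi⟩ hlt
      have h2 := reflectRoot_lt hp.inList (lt_rank hp ⟨i, hi⟩) hlt
      change rep cs hp.isCartan (cs.simple ⟨i, hi⟩) (vec D l s) = vec D l (D.reflectRoot i s) at h1
      change D.reflectRoot i s < D.nroots at h2
      rw [e] at h1 h2
      refine ⟨h2, cs.simple ⟨i, hi⟩ * w, ?_⟩
      rw [← h1, rep_mul_apply, ← hw]
    have hs' : ∀ r ∈ x :: seen, r < D.nroots ∧ ∃ w : W,
        vec D l r = rep cs hp.isCartan w (vec D l (D.nroots - 1)) := by
      intro r hr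
      rcases List.mem_cons.1 hr with rfl | hr
      · exact hx
      · exact hs r hr
    intro r hr
    rcases List.mem_cons.1 hr with rfl | hr
    · exact hx
    · exact ih (x :: seen) hs' hc2 r hr

/-- the checks of a list of vectors -/
def chk (T P : List (List ℤ)) : Bool :=
  (P.all fun v => T.contains v && P.contains (negL v)) &&
  (P.all fun v => P.all fun u => !(T.contains (addL v u)) || P.contains (addL v u)) &&
  (P.all fun v => P.all fun u => (T.contains (addL v u) || T.contains (subL v u)) ||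
    P.any fun t => (T.contains (addL v t) || T.contains (subL v t)) && (T.contains (addL t u) || T.contains (subL t u))) &&
  (P.any fun v => P.any fun u => T.contains (addL v u))

/-- **`PsiSet` from a list of vectors.** -/
theorem PsiSet.of_list (hT : Tabl D l T) {P : List (List ℤ)} (hc : chk T P = true) {L : List ℕ}
    (hL : chain D l [D.nroots - 1] L = true) (hPL : ∀ v ∈ P, v = T.getD (D.nroots - 1) [] ∨ ∃ r ∈ L, v = T.getD r [])
    {θ : (Fin l → ℤ) → (Fin l → ℤ)} (hθ : ∀ v ∈ P, ∃ u ∈ P, θ (vf l v) = vf l u) :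
    PsiSet hp cs θ {x | ∃ v ∈ P, vf l v = x} := by
  unfold chk at hc
  simp only [Bool.and_eq_true, List.all_eq_true, List.any_eq_true, Bool.or_eq_true, Bool.not_eq_true',
    List.contains_iff_mem] at hc
  obtain ⟨⟨⟨c1, c2⟩, c3⟩, c4⟩ := hc
  have hlen : ∀ v ∈ P, v.length = l := fun v hv => hT.length_eq (c1 v hv).1
  have hadd : ∀ v ∈ P, ∀ u ∈ P, (IsRoot cs hp.isCartan (vf l v + vf l u) ↔ addL v u ∈ T) := by
    intro v hv u hu
    rw [← vf_addL (hlen v hv) (hlen u hu), hT.isRoot_vf hp cs (length_addL (hlen v hv) (hlen u hu))]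
  have hsub : ∀ v ∈ P, ∀ u ∈ P, (IsRoot cs hp.isCartan (vf l v - vf l u) ↔ subL v u ∈ T) := by
    intro v hv u hu
    rw [← vf_subL (hlen v hv) (hlen u hu), hT.isRoot_vf hp cs (length_subL (hlen v hv) (hlen u hu))]
  have h0 : 0 < D.nroots := by
    obtain ⟨v, hv, -⟩ := c4
    have h1 := (c1 v hv).1
    have h2 := List.length_pos_of_mem h1
    rwa [hT.len] at h2
  refine ⟨?_, ?_, ?_, ?_, ?_, ?_, ?_⟩
  · rintro _ ⟨v, hv, rfl⟩
    exact (hT.isRoot_vf hp cs (hlen v hv)).2 (c1 v hv).1
  · rintro _ ⟨v, hv, rfl⟩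
    exact ⟨negL v, (c1 v hv).2, vf_negL v⟩
  · rintro _ ⟨v, hv, rfl⟩ _ ⟨u, hu, rfl⟩ h1
    rw [hadd v hv u hu] at h1
    refine ⟨addL v u, ?_, vf_addL (hlen v hv) (hlen u hu)⟩
    rcases c2 v hv u hu with h | h
    · exfalso
      rw [← Bool.not_eq_true, List.contains_iff_mem] at h
      exact h h1
    · exact h
  · rintro _ ⟨v, hv, rfl⟩
    obtain ⟨u, hu, e⟩ := hθ v hv
    exact ⟨u, hu, e.symm⟩
  · rintro _ ⟨v, hv, rfl⟩
    rcases hPL v hv with rfl | ⟨r, hr, rfl⟩
    · exact ⟨1, by rw [hT.vec_eq (by omega), map_one, Module.End.one_apply]⟩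
    · have h1 := exists_w_of_chain hp cs L [D.nroots - 1] (by
        intro r hr
        rw [List.mem_singleton] at hr
        subst hr
        exact ⟨by omega, 1, by rw [map_one, Module.End.one_apply]⟩) hL r hr
      rw [hT.vec_eq h1.1]
      exact h1.2
  · intro A hA hne hcl
    apply Set.Subset.antisymm hA
    rintro _ ⟨u, hu, rfl⟩
    obtain ⟨a, ha⟩ := hne
    obtain ⟨v, hv, rfl⟩ := hA ha
    have hstep : ∀ v ∈ P, ∀ u ∈ P, (addL v u ∈ T ∨ subL v u ∈ T) → vf l v ∈ A → vf l u ∈ A := by
      intro v hv u hu h1 h2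
      refine hcl _ h2 _ ⟨u, hu, rfl⟩ ?_
      rw [hadd v hv u hu, hsub v hv u hu]
      exact h1
    rcases c3 v hv u hu with h | ⟨t, ht, h1, h2⟩
    · exact hstep v hv u hu h ha
    · exact hstep t ht u hu h2 (hstep v hv t ht h1 ha)
  · obtain ⟨v, hv, u, hu, h1⟩ := c4
    exact ⟨_, ⟨v, hv, rfl⟩, _, ⟨u, hu, rfl⟩, (hadd v hv u hu).2 h1⟩

end Cfsg.Agent.H165.WL
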